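import Cfsg.Agent.H24.Balance.Core.Decomp
import Cfsg.Agent.H94.PPrimeResidual
import Cfsg.Agent.H94.ResidualNormal
import Cfsg.Agent.H94.Comp.Basic

/-!
A normal subsystem of the normalizer system of `X` over `N_T(X) X` with hyperfocal subgroup in `T`.
-/

set_option autoImplicit false
set_option linter.unusedSectionVars false

namespace Cfsg.Agent.H24.Balance.Core

open Cfsg Cfsg.FusionSystem
open Cfsg.Agent.H93 (Mor)

variable {Ω : Type*} [Group Ω] {S T X : Subgroup Ω} {F : FusionSystem S} {E : FusionSystem T} {p : ℕ}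
  [Finite S] [Fact p.Prime]

/-- Congruence to conjugation by an element of `X` forces congruence to the identity in order prime to `p`. -/
theorem congT_of_dec (hS : IsPGroup p S) (hI : E.IsInvariantIn F) (hX : X ≤ S) {P : Subgroup Ω} (hP : P ≤ S)
    {a : MulAut P} (hap : (orderOf a).Coprime p) {f : Ω → Ω} (he : ∀ y : P, f y = ((a y : P) : Ω))
    (h : Dec E X P f) : CongT T P a := by
  have hT := hI.2.1
  obtain ⟨x, hx, hc, -⟩ := h
  have hpow : ∀ (n : ℕ) (y : P), (x ^ n * (y : Ω) * (x ^ n)⁻¹)⁻¹ * (((a ^ n) y : P) : Ω) ∈ T := by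
    intro n
    induction n with
    | zero => intro y; simp
    | succ n ih =>
      intro y
      rw [pow_succ' a, MulAut.mul_apply]
      have h1 := hc _ ((a ^ n) y).2
      rw [he] at h1
      refine cong_trans ?_ h1
      have h2 := H93.StronglyClosed.conj_mem hT (hX hx) (ih y)
      convert h2 using 1
      rw [pow_succ' x]
      group
  obtain ⟨k, hk⟩ := hS ⟨x, hX hx⟩
  have hk' : x ^ p ^ k = 1 := congrArg Subtype.val hk
  obtain ⟨r, hr⟩ : ∃ r : ℕ, (a ^ p ^ k) ^ r = a :=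
    exists_pow_eq_self_of_coprime (Nat.Coprime.pow_left k (Nat.coprime_comm.1 hap))
  rw [← hr]
  refine CongT.pow (fun y => ?_) r
  have := hpow (p ^ k) y
  rwa [hk', one_mul, inv_one, mul_one] at this

/-- The subsystem. -/
theorem exists_normal_over (hS : IsPGroup p S) (hE : E.IsNormalIn F p) (hX : F.IsFullyNormalized X)
    {N : FusionSystem (normalizerIn S X)} (hN : F.IsNormalizerSystem X N) :
    ∃ D : FusionSystem ((T ⊓ normalizerIn S X) ⊔ X), D.IsNormalIn N p ∧ D.hyperfocalSubgroup p ≤ T ∧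
      ∀ (P : Subgroup Ω) (φ : P →* Ω), P ≤ T → φ ∈ D.Hom P →
        ∃ x ∈ X, ∃ e ∈ E.Hom P, ∀ y : P, φ y = x * e y * x⁻¹ := by
  have hI := hE.1.2.2
  have hfin : Finite ↥(normalizerIn S X) := H96.finite_of_le (S := S) inf_le_left
  have hh := hyps hS hE hX hN
  have hd : H24.InvMap.Data p N (base S T X) (autom p F E N) := hh.toData
  obtain ⟨D₀, hD₀⟩ : ∃ D₀, D₀ = H24.InvMap.invSystem N (base S T X) (autom p F E N) hd.le := ⟨_, rfl⟩
  have hD₀w : D₀.IsWeaklyNormalIn N p := hD₀ ▸ H24.InvMap.invSystem_isWeaklyNormalIn hh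
  have hRS : base S T X ≤ S := (base_le hX.1).trans inf_le_left
  have := H96.finite_of_le hRS
  have hdec : ∀ R R' f, Mor D₀ R R' f → Dec E X R f := by
    rw [hD₀]
    refine H24.InvMap.inv_induction hd (Φ := fun R _ f => Dec E X R f) (fun R _ f f' e h => h.congr e) ?_ ?_ ?_
    · intro Q R R' f a hQ ha hRQ he _
      exact (autom_dec hE hX.1 hN ha (hQ.1.trans (base_le hX.1)) he).mono hRQ
    · intro R R' R'' f f' hf _ h h'
      exact Dec.comp hI hX.1 (mor_toF hN (H24.InvMap.mor_toF hf)) h h'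
    · intro R R' f f' hf _ e h
      exact Dec.inv hI hX.1 (mor_toF hN (H24.InvMap.mor_toF hf)) e h
  have hhyp : D₀.hyperfocalSubgroup p ≤ T := by
    refine (Subgroup.closure_le _).2 ?_
    rintro _ ⟨P, α, x, hP, hα, rfl⟩
    suffices h : ∀ α ∈ pResidual p (D₀.autGroup P), CongT T P (α : MulAut P) from h α hα x
    intro α hα
    induction hα using Subgroup.closure_induction with
    | mem a ha =>
      obtain ⟨f, hf, hfe⟩ := H93.exists_mor_of_aut hP a.2
      exact congT_of_dec hS hI hX.1 (hP.trans hRS) (by rw [Subgroup.orderOf_coe]; exact ha) hfe (hdec _ _ _ hf)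
    | one => exact CongT.one
    | mul a b _ _ iha ihb => exact iha.mul ihb
    | inv a _ ih => exact ih.inv
  obtain ⟨D, hD, -⟩ := H94.exists_pPrimeResidual (hS.to_le hRS) hD₀w.1
  have hsub : D.IsSubsystemOf D₀ := hD.2.1.1
  refine ⟨D, H94.pPrimeResidual_isNormalIn (hS.to_le inf_le_left) hD₀w hD,
    (H94.Comp.hyperfocal_mono le_rfl hsub).trans hhyp, fun P φ hPT hφ => ?_⟩
  obtain ⟨f, hf, hfe⟩ := H93.exists_mor (hsub P hφ) rfl
  obtain ⟨x, hx, -, V, hV⟩ := hdec _ _ _ hf
  rw [inf_eq_left.2 hPT] at hV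
  obtain ⟨e, he, -, hev⟩ := hV
  refine ⟨x, hx, e, he, fun y => ?_⟩
  rw [hev]
  dsimp only
  rw [hfe]
  group

end Cfsg.Agent.H24.Balance.Core
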