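import Cfsg.Agent.H24.Balance.Top

/-!
The subgroup of automorphisms generated by the good automorphisms and by those conjugate to conjugations by
elements of `Z ⊔ T`.
-/

set_option autoImplicit false
set_option linter.unusedSectionVars false

namespace Cfsg.Agent.H24.Balance

open Cfsg Cfsg.FusionSystem
open Cfsg.Agent.H93 (Mor)
open Cfsg.Agent.H94.Meet (TCentric exists_conjAut)

variable {Ω : Type*} [Group Ω] {S T Z Z' Z₁ : Subgroup Ω} {F : FusionSystem S} {E : FusionSystem T} {p : ℕ}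

theorem conjAut_unique {φ : Ω → Ω} (hφ : Mor F Z Z' φ) {a : MulAut Z} {a' a'' : MulAut Z'}
    (h' : ∀ x : Z, φ ((a x : Z) : Ω) = ((a' ⟨φ x, hφ.map_mem x.2⟩ : Z') : Ω))
    (h'' : ∀ x : Z, φ ((a x : Z) : Ω) = ((a'' ⟨φ x, hφ.map_mem x.2⟩ : Z') : Ω)) : a' = a'' := by
  refine MulEquiv.ext fun y => Subtype.ext ?_
  obtain ⟨x, hx, hxy⟩ := hφ.surj y.2
  obtain ⟨y, hy⟩ := y
  simp only at hxy
  subst hxy
  exact (h' ⟨x, hx⟩).symm.trans (h'' ⟨x, hx⟩)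

/-- Conjugating by an automorphism of the system is the transport along it. -/
theorem conjAut_of_aut {f : Ω → Ω} (hf : Mor F Z Z f) {u : MulAut Z} (hu : ∀ x : Z, f x = ((u x : Z) : Ω))
    (a : MulAut Z) (x : Z) :
    f ((a x : Z) : Ω) = (((u * a * u⁻¹) ⟨f x, hf.map_mem x.2⟩ : Z) : Ω) := by
  rw [hu, show (⟨f x, hf.map_mem x.2⟩ : Z) = u x from Subtype.ext (hu x)]
  simp

/-- An automorphism conjugate to the conjugation by an element of `Z' ⊔ T`. -/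
def ConjT (F : FusionSystem S) (T Z : Subgroup Ω) (a : MulAut Z) : Prop :=
  ∃ (Z' : Subgroup Ω) (φ : Ω → Ω) (w : Ω), Mor F Z Z' φ ∧ w ∈ normalizerIn S Z' ∧ w ∈ Z' ⊔ T ∧
    ∀ x : Z, φ ((a x : Z) : Ω) = w * φ x * w⁻¹

theorem ConjT.mem_autGroup {a : MulAut Z} (h : ConjT F T Z a) : a ∈ F.autGroup Z := by
  obtain ⟨Z', φ, w, hφ, hw, -, he⟩ := h
  obtain ⟨φi, hφi, hφi1, -⟩ := hφ.exists_inv
  obtain ⟨b, hb, hbe⟩ := ((hφi.comp (H93.mor_conj F hφ.le_right hw)).comp hφ).exists_aut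
  rwa [show a = b from MulEquiv.ext fun x => Subtype.ext (by
    rw [hbe]
    show _ = φi (w * φ x * w⁻¹)
    rw [← he x, hφi1 _ (a x).2])]

theorem ConjT.conj {φ : Ω → Ω} (hφ : Mor F Z Z₁ φ) {a : MulAut Z} {a' : MulAut Z₁}
    (he : ∀ x : Z, φ ((a x : Z) : Ω) = ((a' ⟨φ x, hφ.map_mem x.2⟩ : Z₁) : Ω)) (h : ConjT F T Z a) :
    ConjT F T Z₁ a' := by
  obtain ⟨Z', ψ, w, hψ, hw, hwT, hwe⟩ := h
  obtain ⟨φi, hφi, hφi1, -⟩ := hφ.exists_inv
  refine ⟨Z', _, w, hψ.comp hφi, hw, hwT, fun y => ?_⟩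
  obtain ⟨x, hx, hxy⟩ := hφ.surj y.2
  obtain ⟨y, hy⟩ := y
  simp only at hxy
  subst hxy
  show ψ (φi _) = w * ψ (φi (φ x)) * w⁻¹
  rw [← he ⟨x, hx⟩, hφi1 _ (a _).2, hφi1 x hx]
  exact hwe ⟨x, hx⟩

/-- Conjugation by an element of `Z ⊔ T` normalizing `Z`. -/
theorem conjT_of_mem {w : Ω} (hw : w ∈ normalizerIn S Z) (hwT : w ∈ Z ⊔ T) (hZ : Z ≤ S) {a : MulAut Z}
    (he : ∀ x : Z, ((a x : Z) : Ω) = w * x * w⁻¹) : ConjT F T Z a :=
  ⟨Z, fun x => x, w, Mor.id F hZ, hw, hwT, he⟩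

/-- The subgroup generated by the good automorphisms and these. -/
def LGroup (p : ℕ) (F : FusionSystem S) (E : FusionSystem T) (Z : Subgroup Ω) : Subgroup (MulAut Z) :=
  Subgroup.closure {a | GoodAut p F E Z a ∨ ConjT F T Z a}

theorem GoodAut.mem_LGroup {a : MulAut Z} (h : GoodAut p F E Z a) : a ∈ LGroup p F E Z :=
  Subgroup.subset_closure (Or.inl h)

theorem ConjT.mem_LGroup {a : MulAut Z} (h : ConjT F T Z a) : a ∈ LGroup p F E Z :=
  Subgroup.subset_closure (Or.inr h)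

variable [Finite S] [Fact p.Prime]

theorem LGroup_le : LGroup p F E Z ≤ F.autGroup Z :=
  (Subgroup.closure_le _).2 fun _ h => h.elim GoodAut.mem_autGroup ConjT.mem_autGroup

/-- Transport along the maps of the system. -/
theorem LGroup_conj (hE : E.IsInvariantIn F) {φ : Ω → Ω} (hφ : Mor F Z Z' φ) {a : MulAut Z} {a' : MulAut Z'}
    (he : ∀ x : Z, φ ((a x : Z) : Ω) = ((a' ⟨φ x, hφ.map_mem x.2⟩ : Z') : Ω)) (h : a ∈ LGroup p F E Z) :
    a' ∈ LGroup p F E Z' := by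
  induction h using Subgroup.closure_induction generalizing a' with
  | mem a ha =>
    exact ha.elim (fun h => (h.conj hE hφ he).mem_LGroup) fun h => (h.conj hφ he).mem_LGroup
  | one =>
    rw [conjAut_unique hφ (a := 1) he (a'' := 1) fun x => rfl]
    exact one_mem _
  | mul a b _ _ iha ihb =>
    obtain ⟨a₁, ha₁⟩ := exists_conjAut hφ a
    obtain ⟨b₁, hb₁⟩ := exists_conjAut hφ b
    rw [conjAut_unique hφ (a := a * b) he (a'' := a₁ * b₁) fun x => by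
      rw [MulAut.mul_apply, MulAut.mul_apply, ha₁ (b x)]
      exact congrArg (fun z : Z' => ((a₁ z : Z') : Ω)) (Subtype.ext (hb₁ x))]
    exact mul_mem (iha ha₁) (ihb hb₁)
  | inv a _ iha =>
    obtain ⟨a₁, ha₁⟩ := exists_conjAut hφ a
    rw [conjAut_unique hφ (a := a⁻¹) he (a'' := a₁⁻¹) fun x => by
      have h1 := ha₁ (a⁻¹ x)
      rw [show (a (a⁻¹ x)) = x from MulAut.apply_inv_self _ _ _] at h1
      rw [show (⟨φ x, hφ.map_mem x.2⟩ : Z') = a₁ ⟨φ ((a⁻¹ x : Z) : Ω), hφ.map_mem (a⁻¹ x).2⟩ from Subtype.ext h1,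
        MulAut.inv_apply_self]]
    exact inv_mem (iha ha₁)

theorem LGroup_conj_aut (hE : E.IsInvariantIn F) (hZ : Z ≤ S) {a u : MulAut Z} (hu : u ∈ F.autGroup Z)
    (h : a ∈ LGroup p F E Z) : u * a * u⁻¹ ∈ LGroup p F E Z := by
  obtain ⟨f, hf, hfe⟩ := H93.exists_mor_of_aut hZ hu
  exact LGroup_conj hE hf (conjAut_of_aut hf hfe a) h

theorem ConjT.conj_aut {a u : MulAut Z} (hu : u ∈ F.autGroup Z) (hZ : Z ≤ S) (h : ConjT F T Z a) :
    ConjT F T Z (u * a * u⁻¹) := by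
  obtain ⟨f, hf, hfe⟩ := H93.exists_mor_of_aut hZ hu
  exact h.conj hf (conjAut_of_aut hf hfe a)

/-- At a fully normalized subgroup every such automorphism is conjugate to a conjugation. -/
theorem ConjT.exists_fn (hS : IsPGroup p S) (hF : F.IsSaturated p) (hT : F.StronglyClosed T)
    (hn : F.IsFullyNormalized Z) {a : MulAut Z} (h : ConjT F T Z a) :
    ∃ u ∈ F.autGroup Z, ∃ w ∈ normalizerIn S Z, w ∈ Z ⊔ T ∧
      ∀ x : Z, (((u * a * u⁻¹) x : Z) : Ω) = w * x * w⁻¹ := by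
  obtain ⟨Z', φ, w, hφ, hw, hwT, hwe⟩ := h
  obtain ⟨φi, hφi, -, -⟩ := hφ.exists_inv
  obtain ⟨ψ, hψ, hψn, hψimg⟩ := H93.exists_map_to_fullyNormalized hS hF hn hφi.isConj
  obtain ⟨π, hπ, hπe⟩ := H93.exists_mor hψ rfl
  have hN : Z' ≤ normalizerIn S Z' := H93.le_normalizerIn hφ.le_right
  have hπZ : Mor F Z' Z π := by
    refine hπ.restrict_eq hN (fun x hx => ?_) fun y hy => ?_
    · rw [← hψimg]
      exact ⟨⟨x, hN hx⟩, hx, (hπe ⟨x, hN hx⟩).symm⟩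
    · rw [← hψimg] at hy
      obtain ⟨x, hx, rfl⟩ := hy
      exact ⟨x, hx, hπe x⟩
  obtain ⟨u, hu, hue⟩ := (hπZ.comp hφ).exists_aut
  refine ⟨u, hu, π w, ?_, ?_, fun y => ?_⟩
  · rw [hπe ⟨w, hw⟩]
    exact hψn _
  · obtain ⟨ρ, hρ, -, hρv⟩ := id hπ
    rw [← SetLike.mem_coe, Subgroup.coe_mul_of_left_le_normalizer_right Z' T
      (hφ.le_right.trans (H93.StronglyClosed.le_normalizer hT))] at hwT
    obtain ⟨z, hz, t, ht, hzt⟩ := hwT
    have hzt' : z * t = w := hzt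
    have htN : t ∈ normalizerIn S Z' := by
      have := Subgroup.mul_mem _ (Subgroup.inv_mem _ (hN hz)) hw
      rwa [← hzt', inv_mul_cancel_left] at this
    rw [← hzt', hπ.map_mul (hN hz) htN]
    refine Subgroup.mul_mem _ (Subgroup.mem_sup_left (hπZ.map_mem hz)) (Subgroup.mem_sup_right ?_)
    rw [← hρv ⟨t, htN⟩]
    exact H93.StronglyClosed.apply_mem hT hρ _ ht
  · obtain ⟨x, rfl⟩ := u.surjective y
    rw [show (u * a * u⁻¹) (u x) = u (a x) by simp, hue, hue]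
    show π (φ ((a x : Z) : Ω)) = π w * π (φ x) * (π w)⁻¹
    rw [hwe, hπ.map_conj hw (hN (hφ.map_mem x.2))]

end Cfsg.Agent.H24.Balance
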