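import Cfsg.Agent.H24.Balance.LTop

/-!
The elements of order prime to `p` of the generated subgroup are good, those of `p`-power order are conjugate to
conjugations by elements of `Z ⊔ T`.
-/

set_option autoImplicit false
set_option linter.unusedSectionVars false

namespace Cfsg.Agent.H24.Balance

open Cfsg Cfsg.FusionSystem
open Cfsg.Agent.H93 (Mor)
open Cfsg.Agent.H94.Meet (TCentric exists_conjAut)

variable {Ω : Type*} [Group Ω] {S T Z : Subgroup Ω} {F : FusionSystem S} {E : FusionSystem T} {p : ℕ}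

/-- The `p`-part of an extension of an automorphism of `p`-power order. -/
theorem exists_ppart_pow [Fact p.Prime] {A B : Type*} [Group A] [Group B] [Finite (MulAut B)] (f : A → B)
    {a : MulAut A} {b : MulAut B} (h : ∀ x, b (f x) = f (a x)) {k : ℕ} (ha : a ^ p ^ k = 1) :
    ∃ m j : ℕ, (b ^ m) ^ p ^ j = 1 ∧ ∀ x, (b ^ m) (f x) = f (a x) := by
  obtain ⟨e, u, hu, he⟩ := Nat.exists_eq_pow_mul_and_not_dvd (orderOf_pos b).ne' p (Fact.out : p.Prime).ne_one
  have hcop : u.Coprime (orderOf a) := Nat.Coprime.coprime_dvd_right (orderOf_dvd_of_pow_eq_one ha)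
    (Nat.Coprime.pow_right k ((Fact.out : p.Prime).coprime_iff_not_dvd.2 hu).symm)
  obtain ⟨r, hr⟩ : ∃ r : ℕ, (a ^ u) ^ r = a := exists_pow_eq_self_of_coprime hcop
  refine ⟨u * r, e, ?_, fun x => ?_⟩
  · rw [← pow_mul, show u * r * p ^ e = orderOf b * r by rw [he]; ring, pow_mul, pow_orderOf_eq_one, one_pow]
  · rw [H96.pow_intertwine f h, pow_mul, hr]

variable [Finite S] [Fact p.Prime]

/-- The case of a prime subgroup with centric part in `T`. -/
theorem LGroup_top (hS : IsPGroup p S) (hE : E.IsNormalIn F p) (hp : Prime F T Z) (hc : TCentric F T (Z ⊓ T))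
    {a : MulAut Z} (ha : a ∈ LGroup p F E Z) :
    ((orderOf a).Coprime p → GoodAut p F E Z a) ∧ ((∃ k, a ^ p ^ k = 1) → ConjT F T Z a) := by
  obtain ⟨hEs, hF, hI⟩ := id hE.1
  have hT := hI.2.1
  have hZ := hp.1.1
  have := H93.finite_autGroup (F := F) hZ
  have := H96.finite_of_le hZ
  obtain ⟨K, hKF, hKn, hKH, hAK, hidx, hKp⟩ := exists_sylow_normal hS hE hp hc
  obtain ⟨I, hI'⟩ : ∃ I, I = autInducedBy Z Z := ⟨_, rfl⟩
  have hIF : I ≤ F.autGroup Z := hI' ▸ (H93.autInducedBy_mono hZ Z).trans (H96.autInducedBy_le_autGroup F hZ)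
  have hIn : ∀ u ∈ F.autGroup Z, ∀ c ∈ I, u * c * u⁻¹ ∈ I := by
    intro u _ c hc'
    rw [hI', H96.mem_autInducedBy] at hc' ⊢
    obtain ⟨z, hz, hze⟩ := hc'
    refine ⟨(u ⟨z, hz⟩ : Z), (u ⟨z, hz⟩).2, fun x => ?_⟩
    rw [MulAut.mul_apply, MulAut.mul_apply,
      show c (u⁻¹ x) = ⟨z, hz⟩ * u⁻¹ x * ⟨z, hz⟩⁻¹ from Subtype.ext (hze _), map_mul, map_mul, map_inv,
      MulAut.apply_inv_self]
    rfl
  have hMn : ∀ u ∈ F.autGroup Z, ∀ c ∈ K ⊔ I, u * c * u⁻¹ ∈ K ⊔ I := by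
    intro u hu c hc'
    have hle : K ⊔ I ≤ (K ⊔ I).comap (MulAut.conj u).toMonoidHom :=
      sup_le (fun k hk => Subgroup.mem_sup_left (hKn u hu k hk)) fun i hi => Subgroup.mem_sup_right (hIn u hu i hi)
    exact hle hc'
  have hLM : LGroup p F E Z ≤ K ⊔ I := by
    refine (Subgroup.closure_le _).2 fun b hb => ?_
    rcases hb with h | h
    · exact Subgroup.mem_sup_left (hKp b (inH_of_goodAut hS hE hp hc h) h.coprime)
    · obtain ⟨u, hu, w, hw, hwT, hwe⟩ := h.exists_fn hS hF hT hp.1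
      rw [← SetLike.mem_coe, Subgroup.coe_mul_of_left_le_normalizer_right Z T
        (hZ.trans (H93.StronglyClosed.le_normalizer hT))] at hwT
      obtain ⟨z, hz, t, ht, hzt⟩ := hwT
      have hzt' : z * t = w := hzt
      have htN : t ∈ Subgroup.normalizer (Z : Set Ω) := by
        have := Subgroup.mul_mem _ (Subgroup.inv_mem _ (Subgroup.le_normalizer (H := Z) hz)) hw.2
        rwa [← hzt', inv_mul_cancel_left] at this
      obtain ⟨cz, hcz, hcze⟩ := H94.exists_autInducedBy (P := Z) (K := Z) hz (Subgroup.le_normalizer hz)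
      obtain ⟨ct, hct, hcte⟩ := H94.exists_autInducedBy (P := Z) (K := T) ht htN
      have e : u * b * u⁻¹ = cz * ct := MulEquiv.ext fun x => Subtype.ext (by
        rw [hwe, MulAut.mul_apply, hcze, hcte, ← hzt']
        group)
      have h1 : u * b * u⁻¹ ∈ K ⊔ I :=
        e ▸ mul_mem (Subgroup.mem_sup_right (hI' ▸ hcz)) (Subgroup.mem_sup_left (hAK hct))
      have h2 := hMn u⁻¹ (inv_mem hu) _ h1
      simpa [mul_assoc] using h2
  have hprod : ∀ {b : MulAut Z}, b ∈ K ⊔ I → ∃ k ∈ K, ∃ c ∈ I, b = k * c := by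
    intro b hb
    rw [← SetLike.mem_coe, Subgroup.coe_mul_of_right_le_normalizer_left K I (fun i hi =>
      Subgroup.mem_normalizer_iff.2 fun x => ⟨hKn i (hIF hi) x, fun h => by
        simpa [mul_assoc] using hKn i⁻¹ (inv_mem (hIF hi)) _ h⟩)] at hb
    obtain ⟨k, hk, c, hc', e⟩ := hb
    exact ⟨k, hk, c, hc', e.symm⟩
  have haF : a ∈ F.autGroup Z := LGroup_le ha
  refine ⟨fun hap => ?_, fun ⟨k, hk⟩ => ?_⟩
  · obtain ⟨k₀, hk₀, c, hc', rfl⟩ := hprod (hLM ha)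
    have hpow : ∀ n : ℕ, ∃ k' ∈ K, (k₀ * c) ^ n = k' * c ^ n := by
      intro n
      induction n with
      | zero => exact ⟨1, one_mem _, by simp⟩
      | succ n ih =>
        obtain ⟨k', hk', e⟩ := ih
        refine ⟨k₀ * (c * k' * c⁻¹), mul_mem hk₀ (hKn c (hIF hc') k' hk'), ?_⟩
        rw [pow_succ', e, pow_succ']
        group
    have hIp : IsPGroup p I := hI' ▸ H94.isPGroup_autInducedBy (P := Z) (hS.to_le hZ)
    obtain ⟨e, he⟩ := hIp ⟨c, hc'⟩
    have he' : c ^ p ^ e = 1 := congrArg Subtype.val he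
    obtain ⟨k', hk', hpe⟩ := hpow (p ^ e)
    rw [he', mul_one] at hpe
    obtain ⟨r, hr⟩ : ∃ r : ℕ, ((k₀ * c) ^ p ^ e) ^ r = k₀ * c :=
      exists_pow_eq_self_of_coprime (Nat.Coprime.pow_left e (Nat.coprime_comm.1 hap))
    have hK : k₀ * c ∈ K := hr ▸ hpe ▸ pow_mem hk' r
    have hH := hKH _ hK
    exact GoodAut.base hc haF hZ hH.congT hap hH.2.2
  · obtain ⟨hA', -⟩ := H94.fullyNormalized_spec hS hF hp.1
    obtain ⟨-, P, hP⟩ := hA'
    have hap : (⟨a, haF⟩ : F.autGroup Z) ^ p ^ k = 1 := Subtype.ext hk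
    obtain ⟨Q, hQ⟩ := (isPGroup_zpowers hap).exists_le_sylow
    obtain ⟨g, hg⟩ := MulAction.exists_smul_eq (F.autGroup Z) Q P
    have hgP : g * ⟨a, haF⟩ * g⁻¹ ∈ (P : Subgroup (F.autGroup Z)) := by
      rw [← hg]
      exact Subgroup.smul_mem_pointwise_smul _ (MulAut.conj g) _ (hQ (Subgroup.mem_zpowers _))
    rw [hP, Subgroup.mem_subgroupOf] at hgP
    have hgM : (g : MulAut Z) * a * (g : MulAut Z)⁻¹ ∈ K ⊔ I := hMn g g.2 a (hLM ha)
    obtain ⟨k₀, hk₀, c, hc', e⟩ := hprod hgM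
    have hk₀P : k₀ ∈ autInducedBy S Z := by
      have h1 : c ∈ autInducedBy S Z := H93.autInducedBy_mono hZ Z (hI' ▸ hc')
      have h2 := mul_mem (show (g : MulAut Z) * a * (g : MulAut Z)⁻¹ ∈ autInducedBy S Z from hgP) (inv_mem h1)
      rwa [e, mul_inv_cancel_right] at h2
    have hXA : K ⊓ autInducedBy S Z ≤ autInducedBy T Z := by
      have hAX : autInducedBy T Z ≤ K ⊓ autInducedBy S Z := le_inf hAK (H93.autInducedBy_mono hT.1 Z)
      have hXp : IsPGroup p ↥(K ⊓ autInducedBy S Z) := (H94.isPGroup_autInducedBy (P := Z) hS).to_le inf_le_right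
      rw [← Subgroup.relIndex_eq_one]
      have : Finite (MulAut Z) := Finite.of_injective (fun e : MulAut Z => (e : Z → Z)) DFunLike.coe_injective
      obtain ⟨n, hn⟩ := hXp.index ((autInducedBy T Z).subgroupOf (K ⊓ autInducedBy S Z))
      change (autInducedBy T Z).relIndex (K ⊓ autInducedBy S Z) = p ^ n at hn
      rcases Nat.eq_zero_or_pos n with hn0 | hn0
      · rw [hn, hn0, pow_zero]
      · refine absurd ?_ hidx
        rw [← Subgroup.relIndex_mul_relIndex _ _ K hAX inf_le_left, hn]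
        exact (dvd_pow_self p hn0.ne').mul_right _
    obtain ⟨t, ht, hte⟩ := H96.mem_autInducedBy.1 (hXA ⟨hk₀, hk₀P⟩)
    rw [hI', H96.mem_autInducedBy] at hc'
    obtain ⟨z, hz, hze⟩ := hc'
    have hw : ∀ x : Z, ((((g : MulAut Z) * a * (g : MulAut Z)⁻¹) x : Z) : Ω) = t * z * x * (t * z)⁻¹ := fun x => by
      rw [e, MulAut.mul_apply, hte, hze]
      group
    have hC : ConjT F T Z ((g : MulAut Z) * a * (g : MulAut Z)⁻¹) := by
      refine conjT_of_mem ⟨S.mul_mem (hT.1 ht) (hZ hz), ?_⟩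
        (Subgroup.mul_mem _ (Subgroup.mem_sup_right ht) (Subgroup.mem_sup_left hz)) hZ hw
      exact H94.mem_normalizer_of_forall_conj_mem fun x hx => hw ⟨x, hx⟩ ▸ Subtype.prop _
    have := hC.conj_aut (inv_mem g.2) hZ
    simpa [mul_assoc] using this

/-- An element of the generated subgroup at a prime subgroup extends to one at the enlargement. -/
theorem exists_LGroup_climb (hS : IsPGroup p S) (hE : E.IsNormalIn F p) (hp : Prime F T Z)
    (hZc : ZCentric F T Z) (hc : ¬ TCentric F T (Z ⊓ T)) {a : MulAut Z} (ha : a ∈ LGroup p F E Z) :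
    ∃ b ∈ LGroup p F E (climb T T Z), ∀ x : Z, b ⟨x, le_climb x.2⟩ = ⟨(a x : Z), le_climb (a x).2⟩ := by
  obtain ⟨hEs, hF, hI⟩ := id hE.1
  have hT := hI.2.1
  have hTc := hT
  have hZ := hp.1.1
  have hM := climb_le (T := T) hZ hT.1
  induction ha using Subgroup.closure_induction with
  | mem a ha =>
    rcases ha with h | h
    · obtain ⟨β, hβ, hβp, hβe⟩ := exists_ext_climb hS hF hT hTc hp.1 h.mem_autGroup h.coprime
      refine ⟨β, ?_, fun x => Subtype.ext (hβe x)⟩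
      exact ((goodAut_step_iff hS hF hI hc hZc hp (Mor.id F hZ) hβ hβp fun x => (hβe x).symm).1 h).mem_LGroup
    · obtain ⟨u, hu, w, hw, hwT, hwe⟩ := h.exists_fn hS hF hT hp.1
      obtain ⟨fu, hfu, hfue⟩ := H93.exists_mor_of_aut hZ hu
      obtain ⟨g, hg, -, hge⟩ := exists_climb_iso hS hF hT hTc hfu hp.1 hp.1
      obtain ⟨γ, hγ, hγe⟩ := hg.exists_aut
      have hwM : w ∈ normalizerIn S (climb T T Z) := ⟨hw.1, mem_normalizer_climb hT hTc hZ hw⟩
      obtain ⟨c, -, hce⟩ := (H93.mor_conj F hM hwM).exists_aut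
      have hcL : c ∈ LGroup p F E (climb T T Z) :=
        (conjT_of_mem hwM (sup_le_sup_right le_climb T hwT) hM hce).mem_LGroup
      refine ⟨γ⁻¹ * c * γ, by simpa using LGroup_conj_aut hI hM (inv_mem hγ) hcL, fun x => ?_⟩
      rw [MulAut.mul_apply, MulAut.mul_apply]
      apply γ.injective
      rw [MulAut.apply_inv_self]
      refine Subtype.ext ((hce _).trans ?_)
      show w * ((γ ⟨x, le_climb x.2⟩ : ↥(climb T T Z)) : Ω) * w⁻¹ = _
      rw [hγe, hγe, hge _ x.2, hge _ (a x).2, hfue, hfue, ← hwe]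
      simp
  | one => exact ⟨1, one_mem _, fun x => rfl⟩
  | mul a b _ _ iha ihb =>
    obtain ⟨a', ha', hae⟩ := iha
    obtain ⟨b', hb', hbe⟩ := ihb
    exact ⟨a' * b', mul_mem ha' hb', fun x => by rw [MulAut.mul_apply, hbe, hae]; rfl⟩
  | inv a _ iha =>
    obtain ⟨a', ha', hae⟩ := iha
    refine ⟨a'⁻¹, inv_mem ha', fun x => ?_⟩
    apply a'.injective
    rw [MulAut.apply_inv_self, hae]
    simp

theorem LGroup_spec_prime (hS : IsPGroup p S) (hE : E.IsNormalIn F p) (hp : Prime F T Z) (hZc : ZCentric F T Z)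
    (hc : ¬ TCentric F T (Z ⊓ T))
    (ih : ∀ b ∈ LGroup p F E (climb T T Z),
      ((orderOf b).Coprime p → GoodAut p F E (climb T T Z) b) ∧
        ((∃ k, b ^ p ^ k = 1) → ConjT F T (climb T T Z) b))
    {a : MulAut Z} (ha : a ∈ LGroup p F E Z) :
    ((orderOf a).Coprime p → GoodAut p F E Z a) ∧ ((∃ k, a ^ p ^ k = 1) → ConjT F T Z a) := by
  obtain ⟨hEs, hF, hI⟩ := id hE.1
  have hT := hI.2.1
  have hTc := hT
  have hZ := hp.1.1
  have hM := climb_le (T := T) hZ hT.1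
  have := H96.finite_of_le hM
  have := H96.finite_of_le hZ
  have : Finite (MulAut ↥(climb T T Z)) := Finite.of_injective (fun e : MulAut ↥(climb T T Z) => (e : _ → _))
    DFunLike.coe_injective
  obtain ⟨b, hb, hbe⟩ := exists_LGroup_climb hS hE hp hZc hc ha
  refine ⟨fun hap => ?_, fun ⟨k, hk⟩ => ?_⟩
  · obtain ⟨m, hmp, hme⟩ := H24.Meet.exists_coprime_pow (p := p)
      (fun x : Z => (⟨x, le_climb x.2⟩ : ↥(climb T T Z))) hbe hap
    exact (goodAut_step_iff hS hF hI hc hZc hp (Mor.id F hZ) (pow_mem (LGroup_le hb) m) hmp fun x =>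
      (congrArg Subtype.val (hme x)).symm).2 ((ih _ (pow_mem hb m)).1 hmp)
  · obtain ⟨m, j, hmj, hme⟩ := exists_ppart_pow (fun x : Z => (⟨x, le_climb x.2⟩ : ↥(climb T T Z))) hbe hk
    obtain ⟨M', φ, w, hφ, hw, hwT, hwe⟩ := (ih _ (pow_mem hb m)).2 ⟨j, hmj⟩
    obtain ⟨Z', hZ'M, hφZ⟩ := hφ.restrict (R := Z) le_climb
    have := H96.finite_of_le hφZ.le_right
    have he : ∀ x : Z, φ ((a x : Z) : Ω) = w * φ x * w⁻¹ := fun x => by
      rw [← hwe ⟨x, le_climb x.2⟩, hme x]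
    have hMle : M' ≤ Z' ⊔ T := by
      obtain ⟨ψ, hψ, -, hψv⟩ := id hφ
      have hcl : climb T T Z ≤ (((Z' ⊔ T).comap ψ)).map (climb T T Z).subtype := sup_le
        (fun x hx => ⟨⟨x, le_climb hx⟩, Subgroup.mem_comap.2
          ((hψv ⟨x, le_climb hx⟩).symm ▸ Subgroup.mem_sup_left (hφZ.map_mem hx)), rfl⟩)
        fun s hs => ⟨⟨s, stabIn_le_climb hs⟩, Subgroup.mem_comap.2 (Subgroup.mem_sup_right
          (H93.StronglyClosed.apply_mem hT hψ _ hs.1.1)), rfl⟩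
      intro y hy
      obtain ⟨x, hx, rfl⟩ := hφ.surj hy
      obtain ⟨v, hv, rfl⟩ := hcl hx
      exact hψv v ▸ hv
    refine ⟨Z', φ, w, hφZ, ⟨hw.1, H94.mem_normalizer_of_forall_conj_mem fun y hy => ?_⟩,
      (sup_le hMle le_sup_right : M' ⊔ T ≤ Z' ⊔ T) hwT, he⟩
    obtain ⟨x, hx, rfl⟩ := hφZ.surj hy
    exact he ⟨x, hx⟩ ▸ hφZ.map_mem (a ⟨x, hx⟩).2

/-- The main property of the generated subgroup. -/
theorem LGroup_spec (hS : IsPGroup p S) (hE : E.IsNormalIn F p) :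
    ∀ Z : Subgroup Ω, ZCentric F T Z → ∀ a ∈ LGroup p F E Z,
      ((orderOf a).Coprime p → GoodAut p F E Z a) ∧ ((∃ k, a ^ p ^ k = 1) → ConjT F T Z a) := by
  obtain ⟨hEs, hF, hI⟩ := id hE.1
  have hT := hI.2.1
  have hTf : Finite T := H96.finite_of_le hT.1
  suffices ∀ n, ∀ Z : Subgroup Ω, Nat.card T - Nat.card ↥(Z ⊓ T) = n → ZCentric F T Z → ∀ a ∈ LGroup p F E Z,
      ((orderOf a).Coprime p → GoodAut p F E Z a) ∧ ((∃ k, a ^ p ^ k = 1) → ConjT F T Z a) from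
    fun Z => this _ Z rfl
  intro n
  induction n using Nat.strong_induction_on with
  | _ n ih =>
  intro Z hn hZc a ha
  obtain ⟨Z₁, φ, hφ, hp⟩ := exists_prime hS hF hT hZc.1
  obtain ⟨a₁, ha₁⟩ := exists_conjAut hφ a
  have ha₁L : a₁ ∈ LGroup p F E Z₁ := LGroup_conj hI hφ ha₁ ha
  have hspec : ((orderOf a₁).Coprime p → GoodAut p F E Z₁ a₁) ∧ ((∃ k, a₁ ^ p ^ k = 1) → ConjT F T Z₁ a₁) := by
    by_cases hc : TCentric F T (Z₁ ⊓ T)
    · exact LGroup_top hS hE hp hc ha₁L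
    · have hZc₁ := hZc.of_mor hφ
      refine LGroup_spec_prime hS hE hp hZc₁ hc (fun b hb => ?_) ha₁L
      have hlt := inf_lt_climb hS hF hT hp hc
      have hle : climb T T Z₁ ⊓ T ≤ T := inf_le_right
      have := H96.finite_of_le hle
      have hcard : Nat.card ↥(Z₁ ⊓ T) < Nat.card ↥(climb T T Z₁ ⊓ T) := by
        refine lt_of_le_of_ne (Subgroup.card_le_of_le hlt.le) fun e => hlt.ne (Subgroup.eq_of_le_of_card_ge hlt.le e.ge)
      have hcT : Nat.card ↥(climb T T Z₁ ⊓ T) ≤ Nat.card T := Subgroup.card_le_of_le hle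
      have hceq := (mor_inf hT hφ).card_eq
      exact ih _ (by omega) _ rfl (hZc₁.mono le_climb (climb_le hp.1.1 hT.1)) b hb
  obtain ⟨φi, hφi, hφi1, -⟩ := hφ.exists_inv
  have hback : ∀ y : Z₁, φi ((a₁ y : Z₁) : Ω) = ((a ⟨φi y, hφi.map_mem y.2⟩ : Z) : Ω) := by
    intro y
    obtain ⟨x, hx, hxy⟩ := hφ.surj y.2
    obtain ⟨y, hy⟩ := y
    simp only at hxy
    subst hxy
    rw [← ha₁ ⟨x, hx⟩, hφi1 _ (a _).2]
    exact congrArg (fun z : Z => ((a z : Z) : Ω)) (Subtype.ext (hφi1 x hx).symm)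
  refine ⟨fun hap => (hspec.1 (H24.Meet.coprime_conjAut hφ ha₁ hap)).conj hI hφi hback, fun ⟨k, hk⟩ => ?_⟩
  refine (hspec.2 ⟨k, MulEquiv.ext fun y => ?_⟩).conj hφi hback
  obtain ⟨x, hx, hxy⟩ := hφ.surj y.2
  obtain ⟨y, hy⟩ := y
  simp only at hxy
  subst hxy
  have h1 := H96.pow_intertwine (fun x : Z => (⟨φ x, hφ.map_mem x.2⟩ : Z₁))
    (fun x => Subtype.ext (ha₁ x).symm) (p ^ k) ⟨x, hx⟩
  rw [h1, hk]
  rfl

end Cfsg.Agent.H24.Balance
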