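import Cfsg.Agent.H24.Balance.LDefs
import Cfsg.Agent.H35.Meet.SylowGroup

/-!
The generated subgroup at a prime subgroup whose part in `T` is centric.
-/

set_option autoImplicit false
set_option linter.unusedSectionVars false

namespace Cfsg.Agent.H24.Balance

open Cfsg Cfsg.FusionSystem
open Cfsg.Agent.H93 (Mor)
open Cfsg.Agent.H94.Meet (TCentric)

variable {Ω : Type*} [Group Ω] {S T Z : Subgroup Ω} {F : FusionSystem S} {E : FusionSystem T} {p : ℕ}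
  [Finite S] [Fact p.Prime]

theorem aut_conj_zpow {a : MulAut Z} {t : Ω} (he : ∀ x : Z, ((a x : Z) : Ω) = t * x * t⁻¹) (n : ℤ) (x : Z) :
    (((a ^ n) x : Z) : Ω) = t ^ n * x * (t ^ n)⁻¹ := by
  induction n using Int.induction_on generalizing x with
  | zero => simp
  | succ n ih =>
    rw [add_comm, zpow_add, zpow_add, zpow_one, zpow_one, MulAut.mul_apply, he, ih]
    group
  | pred n ih =>
    rw [show -(n : ℤ) - 1 = -1 + -n by ring, zpow_add, zpow_add, zpow_neg_one, zpow_neg_one, MulAut.mul_apply]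
    have h1 := he (a⁻¹ ((a ^ (-n : ℤ)) x))
    rw [MulAut.apply_inv_self, ih] at h1
    calc ((a⁻¹ ((a ^ (-n : ℤ)) x) : Z) : Ω)
        = t⁻¹ * (t * ((a⁻¹ ((a ^ (-n : ℤ)) x) : Z) : Ω) * t⁻¹) * t := by group
      _ = _ := by rw [← h1]; group

theorem inH_of_conj (hI : E.IsInvariantIn F) (hZ : Z ≤ S) {t : Ω} (ht : t ∈ normalizerIn T Z) {a : MulAut Z}
    (he : ∀ x : Z, ((a x : Z) : Ω) = t * x * t⁻¹) : InH F E Z a := by
  have hT := hI.2.1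
  have htS : t ∈ normalizerIn S Z := ⟨hT.1 ht.1, ht.2⟩
  have := H96.finite_of_le hZ
  obtain ⟨α, hα, hαe⟩ := (H93.mor_conj F hZ htS).exists_aut
  have hM := climb_le (T := T) hZ (le_refl S)
  have htM : t ∈ normalizerIn S (climb S T Z) :=
    ⟨htS.1, mem_normalizer_climb hT (stronglyClosed_self F) hZ htS⟩
  obtain ⟨β, hβ, hβe⟩ := (H93.mor_conj F hM htM).exists_aut
  refine ⟨?_, ⟨β, hβ, fun y => ?_, fun x => (hβe _).trans (he x).symm⟩, fun x => t * x * t⁻¹, ?_,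
    fun x _ => (he x).symm⟩
  · rwa [show a = α from MulEquiv.ext fun x => Subtype.ext ((he x).trans (hαe x).symm)]
  · rw [hβe]
    have h := T.mul_mem (H93.StronglyClosed.conj_mem hT (S.inv_mem (hM y.2)) ht.1) (T.inv_mem ht.1)
    convert h using 1
    group
  · refine H93.mor_conj E inf_le_right ⟨ht.1, ?_⟩
    have := H96.finite_of_le ((inf_le_left : Z ⊓ T ≤ Z).trans hZ)
    exact H94.mem_normalizer_of_forall_conj_mem fun q hq =>
      ⟨H93.mem_normalizerIn_conj ht hq.1, T.mul_mem (T.mul_mem ht.1 hq.2) (T.inv_mem ht.1)⟩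

/-- A normal subgroup of the automizer in which the automorphisms induced by `T` have index prime to `p`. -/
theorem exists_sylow_normal (hS : IsPGroup p S) (hE : E.IsNormalIn F p) (hp : Prime F T Z)
    (hc : TCentric F T (Z ⊓ T)) :
    ∃ K : Subgroup (MulAut Z), K ≤ F.autGroup Z ∧ (∀ u ∈ F.autGroup Z, ∀ k ∈ K, u * k * u⁻¹ ∈ K) ∧
      (∀ k ∈ K, InH F E Z k) ∧ autInducedBy T Z ≤ K ∧ ¬ p ∣ (autInducedBy T Z).relIndex K ∧
      ∀ a, InH F E Z a → (orderOf a).Coprime p → a ∈ K := by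
  obtain ⟨hEs, hF, hI⟩ := id hE.1
  have hT := hI.2.1
  have hZ := hp.1.1
  have := H93.finite_autGroup (F := F) hZ
  have := H96.finite_of_le hZ
  obtain ⟨hA', hrec⟩ := H94.fullyNormalized_spec hS hF hp.1
  obtain ⟨-, P, hP⟩ := hA'
  have hPi : ∀ {x : F.autGroup Z}, x ∈ (P : Subgroup (F.autGroup Z)) ↔
      ∃ s ∈ S, ∀ z : Z, (((x : MulAut Z) z : Z) : Ω) = s * z * s⁻¹ := fun {x} => by
    rw [hP, Subgroup.mem_subgroupOf, H96.mem_autInducedBy]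
  obtain ⟨H, hH⟩ : ∃ H, H = (hGroup F E Z).subgroupOf (F.autGroup Z) := ⟨_, rfl⟩
  obtain ⟨A, hA⟩ : ∃ A, A = (autInducedBy T Z).subgroupOf (F.autGroup Z) := ⟨_, rfl⟩
  have hHi : ∀ {x : F.autGroup Z}, x ∈ H ↔ InH F E Z x := fun {x} => by
    rw [hH, Subgroup.mem_subgroupOf, mem_hGroup]
  have hAi : ∀ {x : F.autGroup Z}, x ∈ A ↔
      ∃ t ∈ T, ∀ z : Z, (((x : MulAut Z) z : Z) : Ω) = t * z * t⁻¹ := fun {x} => by
    rw [hA, Subgroup.mem_subgroupOf, H96.mem_autInducedBy]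
  have : H.Normal := ⟨fun n hn g => hHi.2 (hGroup_conj hS hF hI hp.1 g.2 (hHi.1 hn))⟩
  have hnorm : ∀ {s : Ω} {x : MulAut Z}, (∀ z : Z, ((x z : Z) : Ω) = s * z * s⁻¹) →
      s ∈ Subgroup.normalizer (Z : Set Ω) := fun {s} {x} he =>
    H94.mem_normalizer_of_forall_conj_mem fun z hz => he ⟨z, hz⟩ ▸ (x ⟨z, hz⟩).2
  have hAH : A ≤ H := fun x hx => by
    obtain ⟨t, ht, he⟩ := hAi.1 hx
    exact hHi.2 (inH_of_conj hI hZ ⟨ht, hnorm he⟩ he)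
  have hAP : A ≤ (P : Subgroup (F.autGroup Z)) := fun x hx => by
    obtain ⟨t, ht, he⟩ := hAi.1 hx
    exact hPi.2 ⟨t, hT.1 ht, he⟩
  have hAfus : ∀ g : F.autGroup Z, ∀ a ∈ A, g * a * g⁻¹ ∈ (P : Subgroup (F.autGroup Z)) → g * a * g⁻¹ ∈ A := by
    intro g a ha hgP
    obtain ⟨t, ht, hte⟩ := hAi.1 ha
    obtain ⟨s, hs, hse⟩ := hPi.1 hgP
    obtain ⟨fg, hfg, hfge⟩ := H93.exists_mor_of_aut hZ g.2
    have htN : t ∈ normalizerIn S Z := ⟨hT.1 ht, hnorm hte⟩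
    obtain ⟨ψ, M', hψ, hψe, hψZ⟩ := hfg.extend (M := Subgroup.zpowers t) hrec fun m hm => by
      obtain ⟨n, rfl⟩ := Subgroup.mem_zpowers_iff.1 hm
      refine ⟨Subgroup.zpow_mem _ htN n, s ^ n, S.zpow_mem hs n, fun x hx => ?_⟩
      have h1 := aut_conj_zpow hte n ⟨x, hx⟩
      have h2 := aut_conj_zpow hse n ((g : MulAut Z) ⟨x, hx⟩)
      rw [← hfge] at h2
      rw [← h1, hfge]
      show _ = s ^ n * fg (⟨x, hx⟩ : Z) * (s ^ n)⁻¹
      rw [← h2, Subgroup.coe_mul, Subgroup.coe_mul, Subgroup.coe_inv, _root_.conj_zpow]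
      simp
    refine hAi.2 ⟨ψ t, ?_, fun y => ?_⟩
    · obtain ⟨ρ, hρ, -, hρv⟩ := id hψ
      rw [← hρv ⟨t, Subgroup.mem_sup_right (Subgroup.mem_zpowers t)⟩]
      exact H93.StronglyClosed.apply_mem hT hρ _ ht
    · obtain ⟨x, rfl⟩ := (g : MulAut Z).surjective y
      rw [← hfge, Subgroup.coe_mul, Subgroup.coe_mul, Subgroup.coe_inv, MulAut.mul_apply, MulAut.mul_apply,
        MulAut.inv_apply_self, ← hfge, ← hψe _ x.2,
        ← hψ.map_conj (Subgroup.mem_sup_right (Subgroup.mem_zpowers t)) (Subgroup.mem_sup_left x.2)]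
      rw [show t * (x : Ω) * t⁻¹ = _ from (hte x).symm, hψe _ ((a : MulAut Z) x).2]
  have hfoc : ∀ x ∈ (P : Subgroup (F.autGroup Z)), x ∈ H → ∀ g ∈ H, g * x * g⁻¹ ∈ (P : Subgroup (F.autGroup Z)) →
      x⁻¹ * (g * x * g⁻¹) ∈ A := by
    intro x hxP hxH g hgH hgP
    obtain ⟨s, hs, hse⟩ := hPi.1 hxP
    have hxI := hHi.1 hxH
    obtain ⟨-, -, fQ, hfQ, hfQe⟩ := id hxI
    obtain ⟨aQ, haQ, haQe⟩ := hfQ.exists_aut
    have haQs : ∀ q : ↥(Z ⊓ T), ((aQ q : ↥(Z ⊓ T)) : Ω) = s * q * s⁻¹ := fun q =>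
      ((haQe q).trans (hfQe ⟨q, q.2.1⟩ q.2.2)).trans (hse _)
    obtain ⟨t, ht, hte⟩ := H96.mem_autInducedBy.1 (H35.Meet.mem_autInducedBy_base hS hF hE.1 inf_le_right hp.2
      (H96.mem_autInducedBy.2 ⟨s, hs, haQs⟩) haQ)
    have htq : ∀ q ∈ Z ⊓ T, t * q * t⁻¹ = s * q * s⁻¹ := fun q hq => (hte ⟨q, hq⟩).symm.trans (haQs ⟨q, hq⟩)
    have htS : t ∈ S := hT.1 ht
    have hsN : s ∈ normalizerIn S Z := ⟨hs, hnorm hse⟩
    have hcq : ∀ q ∈ Z ⊓ T, s⁻¹ * t * q * (s⁻¹ * t)⁻¹ = q := fun q hq => by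
      calc s⁻¹ * t * q * (s⁻¹ * t)⁻¹ = s⁻¹ * (t * q * t⁻¹) * s := by group
        _ = q := by rw [htq q hq]; group
    have hcc : ∀ z ∈ Z, z⁻¹ * (s⁻¹ * t * z * (s⁻¹ * t)⁻¹) ∈ T := fun z hz => by
      have hsz : s⁻¹ * z * s⁻¹⁻¹ ∈ Z := H93.mem_normalizerIn_conj (Subgroup.inv_mem _ hsN) hz
      have h1 := hxI.congT ⟨_, hsz⟩
      rw [hse] at h1
      have h3 := T.inv_mem h1
      have h2 : z⁻¹ * (t * z * t⁻¹) ∈ T := by
        have := T.mul_mem (H93.StronglyClosed.conj_mem hT (S.inv_mem (hZ hz)) ht) (T.inv_mem ht)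
        convert this using 1
        group
      have h4 := T.mul_mem h3 (H93.StronglyClosed.conj_mem hT (S.inv_mem hs) h2)
      convert h4 using 1
      group
    have hcS : s⁻¹ * t ∈ S := S.mul_mem (S.inv_mem hs) htS
    have hcn : s⁻¹ * t ∈ Subgroup.normalizer (Z : Set Ω) := H94.mem_normalizer_of_forall_conj_mem fun z hz => by
      have hd : z⁻¹ * (s⁻¹ * t * z * (s⁻¹ * t)⁻¹) ∈ Z ⊓ T := by
        refine hc.2 _ (H93.isConj_refl F (inf_le_left.trans hZ))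
          (H93.mem_centralizerIn.2 ⟨hcc z hz, fun q hq => ?_⟩)
        have hzq : z * q * z⁻¹ ∈ Z ⊓ T := ⟨Z.mul_mem (Z.mul_mem hz hq.1) (Z.inv_mem hz),
          H93.StronglyClosed.conj_mem hT (hZ hz) hq.2⟩
        have e1 : (s⁻¹ * t)⁻¹ * q * (s⁻¹ * t) = q := by
          calc (s⁻¹ * t)⁻¹ * q * (s⁻¹ * t) = (s⁻¹ * t)⁻¹ * (s⁻¹ * t * q * (s⁻¹ * t)⁻¹) * (s⁻¹ * t) := by
                rw [hcq q hq]
            _ = q := by group
        calc z⁻¹ * (s⁻¹ * t * z * (s⁻¹ * t)⁻¹) * q * (z⁻¹ * (s⁻¹ * t * z * (s⁻¹ * t)⁻¹))⁻¹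
            = z⁻¹ * (s⁻¹ * t * (z * ((s⁻¹ * t)⁻¹ * q * (s⁻¹ * t)) * z⁻¹) * (s⁻¹ * t)⁻¹) * z := by group
          _ = q := by rw [e1, hcq _ hzq]; group
      have := Z.mul_mem hz hd.1
      rwa [mul_inv_cancel_left] at this
    have hst : s⁻¹ * t ∈ stabIn S T Z := ⟨⟨hcS, hcn⟩, hcq, hcc⟩
    have hcN : s⁻¹ * t ∈ normalizerIn S Z := ⟨hcS, hcn⟩
    have htZ : t ∈ normalizerIn T Z := ⟨ht, by
      have := (Subgroup.mul_mem _ hsN hcN).2
      rwa [mul_inv_cancel_left] at this⟩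
    obtain ⟨at', hat', hate⟩ := (H93.mor_conj F hZ ⟨htS, htZ.2⟩).exists_aut
    obtain ⟨-, ⟨β, hβ, hβc, hβe⟩, -⟩ := hHi.1 hgH
    obtain ⟨bc, hbc⟩ : ∃ bc, bc = β ⟨s⁻¹ * t, stabIn_le_climb hst⟩ := ⟨_, rfl⟩
    have hbcN : (bc : Ω) ∈ normalizerIn S Z := climb_le_normalizerIn hZ le_rfl bc.2
    obtain ⟨ab, hab, habe⟩ := (H93.mor_conj F hZ hbcN).exists_aut
    have hconj : ∀ y : Z, (((g : MulAut Z) * at' * (g : MulAut Z)⁻¹) y : Ω) =
        (((g : MulAut Z) * (x : MulAut Z) * (g : MulAut Z)⁻¹) (ab y) : Z) := by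
      intro y
      obtain ⟨z, rfl⟩ := (g : MulAut Z).surjective y
      have hcz : s⁻¹ * t * z * (s⁻¹ * t)⁻¹ ∈ Z := H93.mem_normalizerIn_conj hcN z.2
      have e1 : ab ((g : MulAut Z) z) = (g : MulAut Z) ⟨_, hcz⟩ := Subtype.ext (by
        rw [habe, ← hβe ⟨_, hcz⟩, ← hβe z, hbc, ← Subgroup.coe_inv, ← Subgroup.coe_mul, ← Subgroup.coe_mul,
          ← map_inv, ← map_mul, ← map_mul]
        rfl)
      rw [e1]
      simp only [MulAut.mul_apply, MulAut.inv_apply_self]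
      refine congrArg (fun v : Z => (((g : MulAut Z) v : Z) : Ω)) (Subtype.ext ?_)
      rw [hate, hse]
      show _ = s * (s⁻¹ * t * z * (s⁻¹ * t)⁻¹) * s⁻¹
      group
    obtain ⟨s', hs', hs'e⟩ := hPi.1 hgP
    have hgat : (g * ⟨at', hat'⟩ * g⁻¹) ∈ (P : Subgroup (F.autGroup Z)) :=
      hPi.2 ⟨s' * bc, S.mul_mem hs' hbcN.1, fun y => by
        rw [show ((g * ⟨at', hat'⟩ * g⁻¹ : F.autGroup Z) : MulAut Z) = g * at' * (g : MulAut Z)⁻¹ from rfl,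
          hconj]
        rw [show ((g : MulAut Z) * (x : MulAut Z) * (g : MulAut Z)⁻¹) = ((g * x * g⁻¹ : F.autGroup Z) : MulAut Z) from rfl,
          hs'e, habe]
        group⟩
    obtain ⟨t', ht', ht'e⟩ := hAi.1 (hAfus g ⟨at', hat'⟩ (hAi.2 ⟨t, ht, hate⟩) hgat)
    refine hAi.2 ⟨s⁻¹ * t' * (bc : Ω)⁻¹, ?_, fun y => ?_⟩
    · have h1 : (s⁻¹ * t)⁻¹ * (bc : Ω) ∈ T := hbc ▸ hβc ⟨s⁻¹ * t, stabIn_le_climb hst⟩
      have h2 : t⁻¹ * t' ∈ T := T.mul_mem (T.inv_mem ht) ht'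
      have h3 := H93.StronglyClosed.conj_mem hT hcS (T.mul_mem h2 (T.inv_mem h1))
      convert h3 using 1
      group
    · obtain ⟨z, rfl⟩ := ab.surjective y
      have h1 := ht'e z
      rw [show ((g * ⟨at', hat'⟩ * g⁻¹ : F.autGroup Z) : MulAut Z) = g * at' * (g : MulAut Z)⁻¹ from rfl,
        hconj] at h1
      have h2 := hse ((x : MulAut Z)⁻¹ (((g : MulAut Z) * x * (g : MulAut Z)⁻¹) (ab z)))
      rw [MulAut.apply_inv_self, h1] at h2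
      show (((x : MulAut Z)⁻¹ * ((g : MulAut Z) * x * (g : MulAut Z)⁻¹)) (ab z) : Ω) = _
      rw [MulAut.mul_apply, habe]
      calc (((x : MulAut Z)⁻¹ (((g : MulAut Z) * x * (g : MulAut Z)⁻¹) (ab z)) : Z) : Ω)
          = s⁻¹ * (s * (((x : MulAut Z)⁻¹ (((g : MulAut Z) * x * (g : MulAut Z)⁻¹) (ab z)) : Z) : Ω) * s⁻¹) * s := by
            group
        _ = _ := by rw [← h2]; group
  obtain ⟨K, hKn, hAK, hKidx, hKp⟩ := H35.Meet.exists_normal_with_sylow P H A hAH hAP hAfus hfoc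
  have hAle : autInducedBy T Z ≤ F.autGroup Z :=
    (H93.autInducedBy_mono hT.1 Z).trans (H96.autInducedBy_le_autGroup F hZ)
  refine ⟨(K ⊓ H).map (F.autGroup Z).subtype, Subgroup.map_subtype_le _, ?_, ?_, ?_, ?_, ?_⟩
  · rintro u hu _ ⟨k, hk, rfl⟩
    exact ⟨⟨u, hu⟩ * k * ⟨u, hu⟩⁻¹, ⟨hKn.conj_mem k hk.1 _, this.conj_mem k hk.2 _⟩, rfl⟩
  · rintro _ ⟨k, hk, rfl⟩
    exact hHi.1 hk.2
  · intro a ha
    have : (⟨a, hAle ha⟩ : F.autGroup Z) ∈ A := by rw [hA]; exact ha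
    exact ⟨_, ⟨hAK this, hAH this⟩, rfl⟩
  · intro hdvd
    have e : (autInducedBy T Z).relIndex ((K ⊓ H).map (F.autGroup Z).subtype) = A.relIndex (K ⊓ H) := by
      conv_lhs => rw [← Subgroup.map_subgroupOf_eq_of_le hAle, ← hA]
      exact Subgroup.relIndex_map_map_of_injective _ _ (Subgroup.subtype_injective _)
    rw [e] at hdvd
    refine hKidx (hdvd.trans ?_)
    exact ⟨(K ⊓ H).relIndex K, (Subgroup.relIndex_mul_relIndex _ _ _ (le_inf hAK hAH) inf_le_left).symm⟩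
  · intro a ha hap
    exact ⟨⟨a, ha.1⟩, ⟨hKp _ (hHi.2 ha) (by rwa [← Subgroup.orderOf_coe]), hHi.2 ha⟩, rfl⟩

end Cfsg.Agent.H24.Balance
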