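import Cfsg.Agent.H24.Balance.Lift
import Cfsg.Agent.H35.Meet.Sylow
import Cfsg.Agent.H93.NormalCongruence

/-!
At a fully normalized subgroup with centric part in `T`, the good automorphisms lie in a normal subgroup of the
automizer whose Sylow subgroup is induced by `T`.
-/

set_option autoImplicit false
set_option linter.unusedSectionVars false

namespace Cfsg.Agent.H24.Balance

open Cfsg Cfsg.FusionSystem
open Cfsg.Agent.H93 (Mor)
open Cfsg.Agent.H94.Meet (TCentric ActsIn actsIn_iff exists_conjAut hull)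

variable {Ω : Type*} [Group Ω] {S T K Z Z' : Subgroup Ω} {F : FusionSystem S} {E : FusionSystem T} {p : ℕ}

theorem cong_trans {u v w : Ω} (h1 : u⁻¹ * v ∈ T) (h2 : v⁻¹ * w ∈ T) : u⁻¹ * w ∈ T := by
  have := T.mul_mem h1 h2
  rwa [mul_assoc, mul_inv_cancel_left] at this

theorem cong_symm {u v : Ω} (h : u⁻¹ * v ∈ T) : v⁻¹ * u ∈ T := by
  simpa using T.inv_mem h

theorem cong_mul (hT : F.StronglyClosed T) {u u' v v' : Ω} (hv : v ∈ S) (h1 : u⁻¹ * u' ∈ T)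
    (h2 : v⁻¹ * v' ∈ T) : (u * v)⁻¹ * (u' * v') ∈ T := by
  have h3 := T.mul_mem (H93.StronglyClosed.conj_mem hT (S.inv_mem hv) h1) h2
  convert h3 using 1
  group

theorem cong_inv (hT : F.StronglyClosed T) {u u' : Ω} (hu : u ∈ S) (h : u⁻¹ * u' ∈ T) :
    u⁻¹⁻¹ * u'⁻¹ ∈ T := by
  have h3 := H93.StronglyClosed.conj_mem hT hu (T.inv_mem h)
  convert h3 using 1
  group

theorem stronglyClosed_self (F : FusionSystem S) : F.StronglyClosed S :=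
  ⟨le_rfl, fun _ _ _ hφ x => (F.le_of_mem hφ).2 x⟩

/-- A map stabilizing `Z` carries `stabIn` into that of the image. -/
theorem map_mem_stabIn (hT : F.StronglyClosed T) (hK : F.StronglyClosed K) {R R' : Subgroup Ω} {g : Ω → Ω}
    (hg : Mor F R R' g) (hgZ : Mor F Z Z' g) (hZR : Z ≤ R) {s : Ω} (hsR : s ∈ R) (hs : s ∈ stabIn K T Z) :
    g s ∈ stabIn K T Z' := by
  obtain ⟨ψ, hψ, -, hψv⟩ := id hg
  have hgQ := mor_inf hT hgZ
  refine ⟨⟨?_, (hg.map_mem_normalizerIn hgZ hZR hsR hs.1.2).2⟩, fun q hq => ?_, fun z hz => ?_⟩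
  · rw [← hψv ⟨s, hsR⟩]
    exact H93.StronglyClosed.apply_mem hK hψ _ hs.1.1
  · obtain ⟨q, hq', rfl⟩ := hgQ.surj hq
    rw [← hg.map_conj hsR (hZR hq'.1), hs.2.1 q hq']
  · obtain ⟨z, hz', rfl⟩ := hgZ.surj hz
    rw [← hg.map_conj hsR (hZR hz'), ← hg.map_inv (hZR hz'), ← hg.map_mul (R.inv_mem (hZR hz'))
      (R.mul_mem (R.mul_mem hsR (hZR hz')) (R.inv_mem hsR))]
    exact (hgQ.map_mem (show _ ∈ Z ⊓ T from
      ⟨Z.mul_mem (Z.inv_mem hz') (H93.mem_normalizerIn_conj hs.1 hz'), hs.2.2 z hz'⟩)).2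

variable [Finite S] [Fact p.Prime]

/-- Elements normalizing `Z` normalize its enlargement. -/
theorem mem_normalizer_climb (hT : F.StronglyClosed T) (hK : F.StronglyClosed K) (hZ : Z ≤ S) {n : Ω}
    (hn : n ∈ normalizerIn S Z) : n ∈ Subgroup.normalizer (climb K T Z : Set Ω) := by
  have hM := climb_le (T := T) hZ hK.1
  have := H96.finite_of_le hM
  refine H94.mem_normalizer_of_forall_conj_mem fun y hy => ?_
  have hconj : Mor F S S (fun x => n * x * n⁻¹) :=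
    H93.mor_conj F le_rfl ⟨hn.1, Subgroup.le_normalizer hn.1⟩
  have hZc : Mor F Z Z (fun x => n * x * n⁻¹) := H93.mor_conj F hZ hn
  have hle : climb K T Z ≤ (climb K T Z).comap (MulAut.conj n).toMonoidHom :=
    sup_le (fun x hx => le_climb (H93.mem_normalizerIn_conj hn hx))
      fun s hs => stabIn_le_climb (map_mem_stabIn hT hK hconj hZc hZ (hK.1 hs.1.1) hs)
  exact hle hy

/-- The automorphisms extending congruently to the enlargement in `S` and lying in `E` on `Z ⊓ T`. -/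
def InH (F : FusionSystem S) (E : FusionSystem T) (Z : Subgroup Ω) (a : MulAut Z) : Prop :=
  a ∈ F.autGroup Z ∧ (∃ β ∈ F.autGroup (climb S T Z), CongT T (climb S T Z) β ∧
    ∀ x : Z, ((β ⟨x, le_climb x.2⟩ : ↥(climb S T Z)) : Ω) = ((a x : Z) : Ω)) ∧ InE E Z a

theorem InH.congT {a : MulAut Z} (h : InH F E Z a) : CongT T Z a := by
  obtain ⟨-, ⟨β, -, hβc, hβe⟩, -⟩ := h
  intro x
  rw [← hβe x]
  exact hβc ⟨x, le_climb x.2⟩

/-- The subgroup formed by these automorphisms. -/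
def hGroup (F : FusionSystem S) (E : FusionSystem T) (Z : Subgroup Ω) : Subgroup (MulAut Z) where
  carrier := {a | InH F E Z a}
  one_mem' := by
    refine ⟨one_mem _, ⟨1, one_mem _, CongT.one, fun x => rfl⟩, fun x => x, ?_, fun x _ => rfl⟩
    exact Mor.id E inf_le_right
  mul_mem' := by
    rintro a b ⟨ha, ⟨β, hβ, hβc, hβe⟩, f, hf, hfe⟩ ⟨hb, ⟨γ, hγ, hγc, hγe⟩, g, hg, hge⟩
    refine ⟨mul_mem ha hb, ⟨β * γ, mul_mem hβ hγ, hβc.mul hγc, fun x => ?_⟩, _, hf.comp hg, fun x hx => ?_⟩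
    · rw [MulAut.mul_apply, MulAut.mul_apply, ← hβe (b x)]
      exact congrArg (fun z : ↥(climb S T Z) => ((β z : ↥(climb S T Z)) : Ω)) (Subtype.ext (hγe x))
    · show f (g x) = _
      rw [MulAut.mul_apply, hge x hx]
      exact hfe (b x) (hge x hx ▸ (hg.map_mem ⟨x.2, hx⟩).2)
  inv_mem' := by
    rintro a ⟨ha, ⟨β, hβ, hβc, hβe⟩, f, hf, hfe⟩
    obtain ⟨fi, hfi, hfi1, hfi2⟩ := hf.exists_inv
    refine ⟨inv_mem ha, ⟨β⁻¹, inv_mem hβ, hβc.inv, fun x => ?_⟩, fi, hfi, fun x hx => ?_⟩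
    · have h1 : β ⟨_, le_climb (a⁻¹ x).2⟩ = ⟨x, le_climb x.2⟩ := Subtype.ext (by
        rw [hβe, MulAut.apply_inv_self])
      rw [← h1, MulAut.inv_apply_self]
    · have hm := hfi.map_mem (show (x : Ω) ∈ Z ⊓ T from ⟨x.2, hx⟩)
      have h1 : a ⟨fi x, hm.1⟩ = x := Subtype.ext ((hfe ⟨fi x, hm.1⟩ hm.2).symm.trans (hfi2 _ ⟨x.2, hx⟩))
      conv_rhs => rw [← h1, MulAut.inv_apply_self]

theorem mem_hGroup {a : MulAut Z} : a ∈ hGroup F E Z ↔ InH F E Z a := Iff.rfl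

/-- The subgroup is normal in the automizer of a fully normalized subgroup. -/
theorem hGroup_conj (hS : IsPGroup p S) (hF : F.IsSaturated p) (hE : E.IsInvariantIn F)
    (hn : F.IsFullyNormalized Z) {a u : MulAut Z} (hu : u ∈ F.autGroup Z) (ha : InH F E Z a) :
    InH F E Z (u * a * u⁻¹) := by
  obtain ⟨haF, ⟨β, hβ, hβc, hβe⟩, hin⟩ := ha
  have hT := hE.2.1
  obtain ⟨f, hf, hfe⟩ := H93.exists_mor_of_aut hn.1 hu
  obtain ⟨g, hg, -, hge⟩ := exists_climb_iso (T := T) hS hF hT (stronglyClosed_self F) hf hn hn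
  obtain ⟨γ, hγ, hγe⟩ := hg.exists_aut
  have hγc : CongT T _ (γ * β * γ⁻¹) := CongT.conj hT hg (fun x => by
    rw [← hγe, show (⟨g x, hg.map_mem x.2⟩ : ↥(climb S T Z)) = γ x from Subtype.ext (hγe x).symm]
    simp) hβc
  refine ⟨mul_mem (mul_mem hu haF) (inv_mem hu), ⟨γ * β * γ⁻¹, mul_mem (mul_mem hγ hβ) (inv_mem hγ), hγc,
    fun y => ?_⟩, ?_⟩
  · obtain ⟨x, rfl⟩ := u.surjective y
    have h1 : (⟨((u x : Z) : Ω), le_climb (u x).2⟩ : ↥(climb S T Z)) = γ ⟨x, le_climb x.2⟩ :=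
      Subtype.ext (((hγe _).trans ((hge x x.2).trans (hfe x))).symm)
    rw [h1, MulAut.mul_apply, MulAut.mul_apply, MulAut.inv_apply_self, hγe, hβe x, hge _ (a x).2, hfe]
    simp
  · refine inE_conj hE hf (fun x => ?_) hin
    rw [hfe, show (⟨f x, hf.map_mem x.2⟩ : Z) = u x from Subtype.ext (hfe x)]
    simp

/-- Good automorphisms at a fully normalized subgroup with centric part in `T` extend congruently. -/
theorem inH_of_goodAut (hS : IsPGroup p S) (hE : E.IsNormalIn F p) (hp : Prime F T Z)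
    (hc : TCentric F T (Z ⊓ T)) {a : MulAut Z} (ha : GoodAut p F E Z a) : InH F E Z a := by
  obtain ⟨hEs, hF, hI⟩ := id hE.1
  have hT := hI.2.1
  have hZS := hp.1.1
  cases ha with
  | step hc' _ _ _ _ _ => exact absurd hc hc'
  | base _ haF _ hac hap hin =>
  obtain ⟨fQ, hfQ, hfQe⟩ := hin
  obtain ⟨aQ, haQ, haQe⟩ := hfQ.exists_aut
  have hQS : Z ⊓ T ≤ S := inf_le_left.trans hZS
  have := H96.finite_of_le hQS
  have := H96.finite_of_le hZS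
  have hQc : F.IsFullyCentralized (Z ⊓ T) := H94.fullyNormalized_fullyCentralized hS hF hp.2
  have hQE : E.IsCentric (Z ⊓ T) := by
    refine ⟨hc.1, fun Q' hQ' => ?_⟩
    obtain ⟨φ, hφ, hr⟩ := hQ'
    exact hc.2 Q' ⟨φ, hI.1 _ hφ, hr⟩
  obtain ⟨g, hg, hgQ, hgc⟩ := H93.NormalCongruence.congAt_of_autGroup hS hE hQE (Mor.id F hQS) hQc haQ
  have hga : ∀ x : ↥(Z ⊓ T), g x = ((a ⟨x, x.2.1⟩ : Z) : Ω) := fun x =>
    (hgQ x).trans ((haQe x).trans (hfQe ⟨x, x.2.1⟩ x.2.2))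
  obtain ⟨fa, hfa, hfae⟩ := H93.exists_mor_of_aut hZS haF
  have hfaQ := mor_inf hT hfa
  have hHS : hull S (Z ⊓ T) ≤ S := H94.Meet.hull_le hQS
  have := H96.finite_of_le hHS
  have hgQm : Mor F (Z ⊓ T) (Z ⊓ T) g := hfaQ.congr fun x hx => ((hga ⟨x, hx⟩).trans (hfae ⟨x, hx.1⟩).symm).symm
  obtain ⟨gi, hgi, hgi1, hgi2⟩ := hg.exists_inv
  have hnQ : ∀ z ∈ Z, z ∈ normalizerIn S (Z ⊓ T) := fun z hz =>
    ⟨hZS hz, H94.mem_normalizer_of_forall_conj_mem fun q hq =>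
      ⟨Z.mul_mem (Z.mul_mem hz hq.1) (Z.inv_mem hz), H93.StronglyClosed.conj_mem hT (hZS hz) hq.2⟩⟩
  have hZh : ∀ z ∈ Z, z ∈ normalizerIn S (hull S (Z ⊓ T)) := fun z hz =>
    H35.Meet.le_hull_normalizer (hnQ z hz) hQS
  -- transporters for the elements of `Z`
  have htr : ∀ z : Z, ∃ e ∈ centralizerIn S (Z ⊓ T), ∀ y ∈ hull S (Z ⊓ T),
      g ((z : Ω) * y * (z : Ω)⁻¹) = (((a z : Z) : Ω) * e) * g y * (((a z : Z) : Ω) * e)⁻¹ := by
    intro z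
    have haz := hZh _ (a z).2
    have hm := ((H93.mor_conj F hHS (Subgroup.inv_mem _ haz)).comp
      (hg.comp ((H93.mor_conj F hHS (hZh z z.2)).comp hgi)))
    obtain ⟨δ, hδ, hδe⟩ := hm.exists_aut
    have hfix : ∀ y : ↥(hull S (Z ⊓ T)), (y : Ω) ∈ Z ⊓ T → δ y = y := by
      intro y hy
      obtain ⟨q, hq, hqy⟩ := hgQm.surj hy
      refine Subtype.ext ((hδe y).trans ?_)
      show ((a z : Z) : Ω)⁻¹ * g ((z : Ω) * gi y * (z : Ω)⁻¹) * ((a z : Z) : Ω)⁻¹⁻¹ = y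
      have hgy : gi y = q := by rw [← hqy, hgi1 _ (H94.Meet.le_hull S _ hq)]
      rw [hgy, show g ((z : Ω) * q * (z : Ω)⁻¹) = _ from hga ⟨_, H93.mem_normalizerIn_conj (hnQ _ z.2) hq⟩,
        show (⟨(z : Ω) * q * (z : Ω)⁻¹, (H93.mem_normalizerIn_conj (hnQ _ z.2) hq).1⟩ : Z) =
          z * ⟨q, hq.1⟩ * z⁻¹ from rfl, map_mul, map_mul, map_inv, Subgroup.coe_mul, Subgroup.coe_mul,
        Subgroup.coe_inv, ← hga ⟨q, hq⟩]
      show _ * (((a z : Z) : Ω) * g q * ((a z : Z) : Ω)⁻¹) * _ = _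
      rw [hqy]
      group
    have hmod : ∀ y : ↥(hull S (Z ⊓ T)), (y : Ω)⁻¹ * ((δ y : ↥(hull S (Z ⊓ T))) : Ω) ∈ Z ⊓ T := by
      intro y
      refine hc.mem_of_hull hT.1 ((hull S _).mul_mem ((hull S _).inv_mem y.2) (δ y).2) ?_
      rw [hδe]
      show (y : Ω)⁻¹ * (((a z : Z) : Ω)⁻¹ * g ((z : Ω) * gi y * (z : Ω)⁻¹) * ((a z : Z) : Ω)⁻¹⁻¹) ∈ T
      have hzS : (z : Ω) ∈ S := hZS z.2
      have hgiy := hgi.map_mem y.2
      have e1 : (y : Ω)⁻¹ * gi y ∈ T := by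
        have := cong_symm (hgc _ hgiy)
        rwa [hgi2 _ y.2] at this
      have e2 : ((z : Ω) * gi y * (z : Ω)⁻¹)⁻¹ * g ((z : Ω) * gi y * (z : Ω)⁻¹) ∈ T := by
        exact hgc _ (H93.mem_normalizerIn_conj (hZh _ z.2) hgiy)
      have haz' : (z : Ω)⁻¹ * ((a z : Z) : Ω) ∈ T := hac z
      have e3 : ((z : Ω) * (y : Ω) * (z : Ω)⁻¹)⁻¹ * g ((z : Ω) * gi y * (z : Ω)⁻¹) ∈ T :=
        cong_trans (cong_mul hT (S.inv_mem hzS) (cong_mul hT (hHS y.2) (by simp) e1) (by simp)) e2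
      have e4 := cong_mul hT (S.inv_mem (S.inv_mem hzS))
        (cong_mul hT (S.mul_mem (S.mul_mem hzS (hHS y.2)) (S.inv_mem hzS)) (cong_inv hT hzS haz') e3)
        (cong_inv hT (S.inv_mem hzS) (cong_inv hT hzS haz'))
      convert e4 using 1
      group
    obtain ⟨e, he, hee⟩ := H24.Meet.stabilizer_eq_conj hS hF hQc hδ hfix hmod
    refine ⟨e, he, fun y hy => ?_⟩
    have h1 := hee ⟨g y, hg.map_mem hy⟩
    rw [hδe] at h1
    change ((a z : Z) : Ω)⁻¹ * g ((z : Ω) * gi (g y) * (z : Ω)⁻¹) * ((a z : Z) : Ω)⁻¹⁻¹ = e * g y * e⁻¹ at h1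
    rw [hgi1 y hy] at h1
    calc g ((z : Ω) * y * (z : Ω)⁻¹)
        = ((a z : Z) : Ω) * (((a z : Z) : Ω)⁻¹ * g ((z : Ω) * y * (z : Ω)⁻¹) * ((a z : Z) : Ω)⁻¹⁻¹) *
            ((a z : Z) : Ω)⁻¹ := by group
      _ = _ := by rw [h1]; group
  -- extension to the join with `Z`
  have hrec := H24.Meet.hull_isReceptive hS hF hQc
  obtain ⟨ψ, R, hψ, hψv, hψH⟩ := hg.extend (M := Z) hrec fun z hz => by
    obtain ⟨e, he, hee⟩ := htr ⟨z, hz⟩
    exact ⟨hZh z hz, _, S.mul_mem (hZS (a ⟨z, hz⟩).2) he.1, hee⟩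
  obtain ⟨W, hW⟩ : ∃ W, W = hull S (Z ⊓ T) ⊔ Z := ⟨_, rfl⟩
  rw [← hW] at hψ
  have hHW : hull S (Z ⊓ T) ≤ W := hW ▸ le_sup_left
  have hZW : Z ≤ W := hW ▸ le_sup_right
  have hWS : W ≤ S := hW ▸ sup_le hHS hZS
  have := H96.finite_of_le hWS
  have hψz : ∀ z : Z, ∃ h ∈ hull S (Z ⊓ T), ψ z = ((a z : Z) : Ω) * h := by
    intro z
    obtain ⟨e, he, hee⟩ := htr z
    refine ⟨e * ((((a z : Z) : Ω) * e)⁻¹ * ψ z), (hull S _).mul_mem (H94.Meet.centralizerIn_le_hull S _ he)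
      (H35.Meet.centralizerIn_hull_le S _ (H93.mem_centralizerIn.2
        ⟨S.mul_mem (S.inv_mem (S.mul_mem (hZS (a z).2) he.1)) (hψ.le_right (hψ.map_mem (hZW z.2))), fun y hy => ?_⟩)),
      by group⟩
    obtain ⟨x, hx, rfl⟩ := hψH.surj hy
    have h1 := hψ.map_conj (hZW z.2) (hHW hx)
    rw [hψv _ (H93.mem_normalizerIn_conj (hZh z z.2) hx), hee x hx, ← hψv x hx] at h1
    calc (((a z : Z) : Ω) * e)⁻¹ * ψ z * ψ x * ((((a z : Z) : Ω) * e)⁻¹ * ψ z)⁻¹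
        = (((a z : Z) : Ω) * e)⁻¹ * (ψ z * ψ x * (ψ z)⁻¹) * (((a z : Z) : Ω) * e) := by group
      _ = ψ x := by rw [← h1]; group
  have hR : R = W := by
    have hle : R ≤ W := by
      obtain ⟨χ, hχ, -, hχv⟩ := id hψ
      have hcl : W ≤ (W.comap χ).map W.subtype := by
        conv_lhs => rw [hW]
        refine sup_le (fun x hx => ⟨⟨x, hHW hx⟩, Subgroup.mem_comap.2 ?_, rfl⟩)
          fun x hx => ⟨⟨x, hZW hx⟩, Subgroup.mem_comap.2 ?_, rfl⟩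
        · rw [hχv]; exact hHW (hψH.map_mem hx)
        · rw [hχv]
          obtain ⟨h, hh, he⟩ := hψz ⟨x, hx⟩
          exact he ▸ W.mul_mem (hZW (a _).2) (hHW hh)
      intro y hy
      obtain ⟨x, hx, rfl⟩ := hψ.surj hy
      obtain ⟨w, hw, rfl⟩ := hcl hx
      exact hχv w ▸ hw
    exact Subgroup.eq_of_le_of_card_ge hle hψ.card_eq.le
  rw [hR] at hψ
  obtain ⟨b₀, hb₀, hb₀e⟩ := hψ.exists_aut
  have : Finite (MulAut W) := Finite.of_injective (fun e : MulAut W => (e : _ → _)) DFunLike.coe_injective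
  have haQp : (orderOf aQ).Coprime p :=
    coprime_of_intertwine (f := fun x : ↥(Z ⊓ T) => (⟨x, x.2.1⟩ : Z))
      (fun x y e => Subtype.ext (congrArg (fun z : Z => (z : Ω)) e))
      (fun x => Subtype.ext (((haQe x).trans (hfQe ⟨x, x.2.1⟩ x.2.2)).symm)) hap
  have hQW : Z ⊓ T ≤ W := inf_le_left.trans hZW
  obtain ⟨m, hbp, hbQ⟩ := H24.Meet.exists_coprime_pow (p := p) (fun x : ↥(Z ⊓ T) => (⟨x, hQW x.2⟩ : W))
    (a := aQ) (b := b₀) (fun x => Subtype.ext ((hb₀e _).trans ((hψv _ (H94.Meet.le_hull S _ x.2)).trans (hgQ x))))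
    haQp
  obtain ⟨b, hbdef⟩ : ∃ b, b = b₀ ^ m := ⟨_, rfl⟩
  rw [← hbdef] at hbp hbQ
  have hbF : b ∈ F.autGroup W := hbdef ▸ pow_mem hb₀ m
  have hWN : W ≤ Subgroup.normalizer (T : Set Ω) := hWS.trans (H93.StronglyClosed.le_normalizer hT)
  have hb₀H : ∀ (n : ℕ) (x : W), (x : Ω) ∈ hull S (Z ⊓ T) →
      (((b₀ ^ n) x : W) : Ω) ∈ hull S (Z ⊓ T) ∧ (x : Ω)⁻¹ * (((b₀ ^ n) x : W) : Ω) ∈ T := by
    intro n
    induction n with
    | zero => intro x hx; simpa using hx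
    | succ n ih =>
      intro x hx
      obtain ⟨h1, h2⟩ := ih x hx
      rw [pow_succ', MulAut.mul_apply, hb₀e, hψv _ h1]
      exact ⟨hg.map_mem h1, cong_trans h2 (hgc _ h1)⟩
  have hsupN : W ≤ Subgroup.normalizer ((hull S (Z ⊓ T) ⊔ T : Subgroup Ω) : Set Ω) := by
    intro x hx
    have : Finite ↥(hull S (Z ⊓ T) ⊔ T) := H96.finite_of_le (sup_le hHS hT.1)
    refine H94.mem_normalizer_of_forall_conj_mem fun y hy => ?_
    have hle : hull S (Z ⊓ T) ⊔ T ≤ (hull S (Z ⊓ T) ⊔ T).comap (MulAut.conj x).toMonoidHom := by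
      refine sup_le (fun h hh => Subgroup.mem_sup_left ?_)
        fun t ht => Subgroup.mem_sup_right (H93.StronglyClosed.conj_mem hT (hWS hx) ht)
      have hle' : W ≤ Subgroup.normalizer (hull S (Z ⊓ T) : Set Ω) :=
        hW ▸ sup_le Subgroup.le_normalizer fun z hz => (hZh z hz).2
      exact (Subgroup.mem_normalizer_iff.1 (hle' hx) h).1 hh
    exact hle hy
  have hb₀mod : ∀ x : W, (x : Ω)⁻¹ * ((b₀ x : W) : Ω) ∈ hull S (Z ⊓ T) ⊔ T := by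
    intro x
    rw [hb₀e]
    have hψ' : Mor F (hull S (Z ⊓ T) ⊔ Z) W ψ := hW ▸ hψ
    refine H24.Meet.cong_sup hψ' (hW ▸ hsupN) (fun y hy => ?_) (fun z hz => ?_) (hW.le x.2)
    · exact Subgroup.mem_sup_left ((hull S _).mul_mem ((hull S _).inv_mem hy) (hψH.map_mem hy))
    · obtain ⟨h, hh, he⟩ := hψz ⟨z, hz⟩
      rw [show ψ z = _ from he, ← mul_assoc]
      exact Subgroup.mul_mem _ (Subgroup.mem_sup_right (hac ⟨z, hz⟩)) (Subgroup.mem_sup_left hh)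
  have hbc : CongT T W b := by
    refine congT_of_coprime hS hWS hHW hbp (fun x hx => hbdef ▸ (hb₀H m x hx).2) (fun x => ?_) (fun x hx => hWN hx)
      fun x hx => H93.StronglyClosed.aut_mem hT hWS hbF _ hx
    have h1 := H24.Meet.cong_pow hb₀mod m x
    rw [← hbdef, ← SetLike.mem_coe,
      Subgroup.coe_mul_of_left_le_normalizer_right _ T (hHS.trans (H93.StronglyClosed.le_normalizer hT))] at h1
    obtain ⟨c, hc', t, ht, he⟩ := h1
    exact ⟨c, hc', t, ht, he.symm⟩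
  obtain ⟨fb, hfb, hfbe⟩ := H93.exists_mor_of_aut hWS hbF
  have hbQ' : ∀ q : ↥(Z ⊓ T), fb q = ((a ⟨q, q.2.1⟩ : Z) : Ω) := fun q =>
    (hfbe ⟨q, hQW q.2⟩).trans ((congrArg Subtype.val (hbQ q)).trans
      ((haQe q).trans (hfQe ⟨q, q.2.1⟩ q.2.2)))
  -- it stabilizes `Z`
  have hbZ : ∀ z ∈ Z, fb z ∈ Z := by
    intro z hz
    have hd : ((a ⟨z, hz⟩ : Z) : Ω)⁻¹ * fb z ∈ Z ⊓ T := by
      refine hc.2 _ (H93.isConj_refl F hQS) (H93.mem_centralizerIn.2 ⟨?_, fun q hq => ?_⟩)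
      · refine cong_trans (cong_symm (hac ⟨z, hz⟩)) ?_
        rw [hfbe ⟨z, hZW hz⟩]
        exact hbc ⟨z, hZW hz⟩
      · obtain ⟨w, hw, hwq⟩ := hfaQ.surj hq
        have hwq' : q = ((a ⟨w, hw.1⟩ : Z) : Ω) := hwq.symm.trans (hfae ⟨w, hw.1⟩)
        have hzw : z * w * z⁻¹ ∈ Z ⊓ T := H93.mem_normalizerIn_conj (hnQ z hz) hw
        have h1 := hfb.map_conj (hZW hz) (hQW hw)
        rw [hbQ' ⟨w, hw⟩, hbQ' ⟨_, hzw⟩, show (⟨z * w * z⁻¹, hzw.1⟩ : Z) = ⟨z, hz⟩ * ⟨w, hw.1⟩ * ⟨z, hz⟩⁻¹ from rfl,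
          map_mul, map_mul, map_inv, Subgroup.coe_mul, Subgroup.coe_mul, Subgroup.coe_inv, ← hwq'] at h1
        calc ((a ⟨z, hz⟩ : Z) : Ω)⁻¹ * fb z * q * (((a ⟨z, hz⟩ : Z) : Ω)⁻¹ * fb z)⁻¹
            = ((a ⟨z, hz⟩ : Z) : Ω)⁻¹ * (fb z * q * (fb z)⁻¹) * ((a ⟨z, hz⟩ : Z) : Ω) := by group
          _ = q := by rw [← h1]; group
    have := Z.mul_mem (a ⟨z, hz⟩).2 hd.1
    rwa [mul_inv_cancel_left] at this
  obtain ⟨Z₂, -, hfbZ⟩ := hfb.restrict hZW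
  obtain rfl : Z₂ = Z := Subgroup.eq_of_le_of_card_ge (fun y hy => by
    obtain ⟨x, hx, rfl⟩ := hfbZ.surj hy
    exact hbZ x hx) hfbZ.card_eq.le
  obtain ⟨a', ha', ha'e⟩ := hfbZ.exists_aut
  -- restriction to the enlargement
  have hSc := stronglyClosed_self F
  have hMW : climb S T Z₂ ≤ W := sup_le hZW fun s hs =>
    hHW (H94.Meet.centralizerIn_le_hull S _ (H93.mem_centralizerIn.2 ⟨hs.1.1, hs.2.1⟩))
  have := H96.finite_of_le (hMW.trans hWS)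
  obtain ⟨M₂, -, hfbM⟩ := hfb.restrict hMW
  obtain rfl : M₂ = climb S T Z₂ := by
    refine Subgroup.eq_of_le_of_card_ge ?_ hfbM.card_eq.le
    obtain ⟨χ, hχ, -, hχv⟩ := id hfbM
    have hcl : climb S T Z₂ ≤ ((climb S T Z₂).comap χ).map (climb S T Z₂).subtype := sup_le
      (fun x hx => ⟨⟨x, le_climb hx⟩, Subgroup.mem_comap.2 ((hχv ⟨x, le_climb hx⟩).symm ▸ le_climb (hbZ x hx)),
        rfl⟩)
      fun s hs => ⟨⟨s, stabIn_le_climb hs⟩, Subgroup.mem_comap.2 ((hχv ⟨s, stabIn_le_climb hs⟩).symm ▸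
        stabIn_le_climb (map_mem_stabIn hT hSc hfb hfbZ hZW (hMW (stabIn_le_climb hs)) hs)), rfl⟩
    intro y hy
    obtain ⟨x, hx, rfl⟩ := hfbM.surj hy
    obtain ⟨w, hw, rfl⟩ := hcl hx
    exact hχv w ▸ hw
  obtain ⟨β, hβ, hβe⟩ := hfbM.exists_aut
  have ha'H : InH F E Z₂ a' := by
    refine ⟨ha', ⟨β, hβ, fun y => ?_, fun x => (hβe _).trans (ha'e x).symm⟩, fQ, hfQ, fun x hx => ?_⟩
    · rw [hβe, hfbe ⟨y, hMW y.2⟩]
      exact hbc ⟨y, hMW y.2⟩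
    · rw [ha'e, hbQ' ⟨x, x.2, hx⟩, hfQe x hx]
  -- the given automorphism is conjugate to it
  have ha'p : (orderOf a').Coprime p :=
    coprime_of_intertwine (f := fun x : Z₂ => (⟨x, hZW x.2⟩ : W))
      (fun x y e => Subtype.ext (congrArg (fun z : W => (z : Ω)) e))
      (fun x => Subtype.ext ((hfbe _).symm.trans (ha'e x).symm)) hbp
  have : Finite (MulAut Z₂) := Finite.of_injective (fun e : MulAut Z₂ => (e : _ → _)) DFunLike.coe_injective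
  obtain ⟨k, hk, hka⟩ := exists_conj_of_mem (isPGroup_stabAut hS hT hZS) (g := a') (f := a) (fun k hk => by
      refine stabAut_conj hT hfbZ (fun x => ?_) hk
      rw [← ha'e, show (⟨fb x, hfbZ.map_mem x.2⟩ : Z₂) = a' x from Subtype.ext (ha'e x).symm]
      simp) ha'p hap
    ⟨⟨Subgroup.mul_mem _ (Subgroup.inv_mem _ ha') haF, ha'H.congT.inv.mul hac⟩, fun x hx => by
      rw [MulAut.mul_apply, show a x = a' x from Subtype.ext ((ha'e x).trans (hbQ' ⟨x, hx⟩)).symm,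
        MulAut.inv_apply_self]⟩
  exact hka ▸ hGroup_conj hS hF hI hp.1 (stabAut_le hk) ha'H

end Cfsg.Agent.H24.Balance
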